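import Groth.Agent.Koszul15.Basic
import Groth.Agent.Alg6.AssDepth
import Groth.Agent.LC.DepthExt
import Mathlib

/-!
# Koszul cohomology and depth
-/

universe u

set_option linter.style.haveILetI false
set_option maxHeartbeats 1000000

open CategoryTheory CategoryTheory.Limits CochainComplex CochainComplex.HomComplex IsLocalRing

namespace Groth.Agent.H1KoszulDepth

variable {A : Type u} [CommRing A]

local notation "K(" fs ", " M ")" => CohIII.koszulCx M fs

/-- An element killed by all the entries is a bottom cycle. -/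
theorem exists_bottom (M : ModuleCat.{u} A) : ∀ fs : List A,
    ∃ ι : M →ₗ[A] K(fs, M).X (-(fs.length : ℤ)), Function.Injective ι ∧
      ∀ m, (∀ f ∈ fs, f • m = 0) → K(fs, M).d (-(fs.length : ℤ)) (-(fs.length : ℤ) + 1) (ι m) = 0 := by
  intro fs
  induction fs with
  | nil =>
    let e : K(([] : List A), M).X 0 ≃ₗ[A] M :=
      (HomologicalComplex.singleObjXSelf (ComplexShape.up ℤ) 0 M).toLinearEquiv
    exact ⟨e.symm.toLinearMap, e.symm.injective, fun m _ =>
      (ModuleCat.subsingleton_of_isZero (Koszul15.isZero_X M [] _ (by simp))).elim _ _⟩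
  | cons f fs ih =>
    obtain ⟨ι, hι, hd⟩ := ih
    let φ := f • 𝟙 K(fs, M)
    have hn : -(fs.length : ℤ) + -1 = -((f :: fs).length : ℤ) := by simp [List.length_cons]; omega
    let ι' : M →ₗ[A] K(f :: fs, M).X (-((f :: fs).length : ℤ)) :=
      ((mappingCone.inl φ).v _ _ hn).hom ∘ₗ ι
    have hfst : ∀ y, (mappingCone.fst φ).1.v (-((f :: fs).length : ℤ)) (-(fs.length : ℤ)) (by omega)
        ((mappingCone.inl φ).v _ _ hn y) = y := fun y =>
      ConcreteCategory.congr_hom (mappingCone.inl_v_fst_v φ (-(fs.length : ℤ)) (-((f :: fs).length : ℤ)) (by omega)) y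
    refine ⟨ι', fun a b h => hι (by
      have := congrArg ((mappingCone.fst φ).1.v (-((f :: fs).length : ℤ)) (-(fs.length : ℤ)) (by omega)) h
      exact (hfst _).symm.trans (this.trans (hfst _))), fun m hm => ?_⟩
    have h1 : (φ.f (-(fs.length : ℤ))) (ι m) = 0 := by
      show f • ι m = 0
      rw [← map_smul, hm f (List.mem_cons_self ..), map_zero]
    have h2 := hd m fun g hg => hm g (List.mem_cons_of_mem _ hg)
    have h3 := ConcreteCategory.congr_hom (mappingCone.inl_v_d φ (-(fs.length : ℤ)) (-((f :: fs).length : ℤ))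
      (-(fs.length : ℤ) + 1) (by omega) (by omega)) (ι m)
    have e : -((f :: fs).length : ℤ) + 1 = -(fs.length : ℤ) := by omega
    rw [e]
    refine h3.trans ?_
    show (mappingCone.inr φ).f _ (φ.f _ (ι m)) -
      (mappingCone.inl φ).v (-(fs.length : ℤ) + 1) (-(fs.length : ℤ)) (by omega) (K(fs, M).d _ _ (ι m)) = 0
    rw [h1, h2, map_zero, map_zero, sub_zero]

theorem not_isZero_bottom (M : ModuleCat.{u} A) (fs : List A) (m : M) (hm : m ≠ 0) (h : ∀ f ∈ fs, f • m = 0) :
    ¬ IsZero (CohIII.koszulH fs M 0) := fun hz => by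
  obtain ⟨ι, hι, hd⟩ := exists_bottom M fs
  have hex : K(fs, M).ExactAt (-(fs.length : ℤ)) := by
    rw [HomologicalComplex.exactAt_iff_isZero_homology]
    simpa [CohIII.koszulH] using hz
  rw [HomologicalComplex.exactAt_iff' _ (-(fs.length : ℤ) - 1) _ (-(fs.length : ℤ) + 1) (by simp <;> omega) (by simp),
    ShortComplex.moduleCat_exact_iff] at hex
  obtain ⟨y, hy⟩ := hex (ι m) (hd m h)
  have : y = 0 := (ModuleCat.subsingleton_of_isZero (Koszul15.isZero_X M fs _ (by omega))).elim _ _
  rw [this, map_zero] at hy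
  exact hm (hι (by rw [map_zero]; exact hy.symm))

theorem homologyMap_kmap_eq_zero (M : ModuleCat.{u} A) (fs : List A) (b : A) (hb : b ∈ Ideal.span {x | x ∈ fs}) (q : ℤ) :
    HomologicalComplex.homologyMap (Koszul15.kmap (b • 𝟙 M) fs) q = 0 := by
  obtain ⟨H⟩ := Koszul15.homotopy_of_mem M fs b hb
  rw [Koszul15.kmap_smul, H.homologyMap_eq, HomologicalComplex.homologyMap_zero]

variable [IsNoetherianRing A] [IsLocalRing A]

theorem main (fs : List A) (hfs : ∀ x ∈ fs, x ∈ maximalIdeal A) : ∀ (r : ℕ) (M : ModuleCat.{u} A) [Module.Finite A M]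
    [Nontrivial M], LocCoh.idealDepth (Ideal.span {x | x ∈ fs}) M = r →
      (∀ p : ℕ, p < r → IsZero (CohIII.koszulH fs M p)) ∧ ¬ IsZero (CohIII.koszulH fs M r) := by
  intro r
  have hle : Ideal.span {x | x ∈ fs} ≤ maximalIdeal A := Ideal.span_le.2 hfs
  induction r with
  | zero =>
    intro M _ _ h
    refine ⟨fun p hp => absurd hp (Nat.not_lt_zero p), ?_⟩
    obtain ⟨p, hp, hap⟩ : ∃ p ∈ associatedPrimes A M, Ideal.span {x | x ∈ fs} ≤ p := by
      by_contra hcon
      push Not at hcon
      have hsub : ¬ ((Ideal.span {x | x ∈ fs} : Ideal A) : Set A) ⊆ ⋃ p ∈ associatedPrimes A M, (p : Set A) := by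
        intro hs
        obtain ⟨p, hp, hle'⟩ := (Ideal.subset_union_prime_finite (associatedPrimes.finite A M) ⊥ ⊥
          fun p hp _ _ => hp.isPrime).1 hs
        exact hcon p hp hle'
      obtain ⟨b, hb, hb'⟩ := Set.not_subset.1 hsub
      rw [biUnion_associatedPrimes_eq_compl_regular, Set.notMem_compl_iff] at hb'
      have := LC.idealDepth_quotSMulTop_add_one (Ideal.span {x | x ∈ fs}) (M := M) hb hb'
      rw [h] at this
      simp at this
    obtain ⟨-, z, hz⟩ := Alg6.mem_ass_iff.1 hp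
    refine not_isZero_bottom M fs z (fun h0 => hp.isPrime.ne_top ((Ideal.eq_top_iff_one _).2 ((hz 1).2 (by simp [h0]))))
      fun f hf => (hz f).1 (hap (Ideal.subset_span hf))
  | succ r ih =>
    intro M _ _ h
    obtain ⟨b, hb, hreg⟩ : ∃ b ∈ Ideal.span {x | x ∈ fs}, IsSMulRegular M b := by
      have htop : Ideal.span {x | x ∈ fs} • (⊤ : Submodule A M) ≠ ⊤ := LC.smul_top_ne_top_of_le_maximal hle
      obtain ⟨rs, hrs, hmem, hlen⟩ := Alg6.exists_length_ge_of_le_idealDepth htop
        (show ((r + 1 : ℕ) : ℕ∞) ≤ LocCoh.idealDepth (Ideal.span {x | x ∈ fs}) M from h.ge)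
      match rs, hlen with
      | b :: rs', _ =>
        exact ⟨b, hmem b (List.mem_cons_self ..), ((RingTheory.Sequence.isWeaklyRegular_cons_iff M b rs').1 hrs).1⟩
      | [], hlen => simp at hlen
    let M' : ModuleCat.{u} A := ModuleCat.of A (QuotSMulTop b M)
    haveI : Nontrivial (QuotSMulTop b M) := Submodule.Quotient.nontrivial_iff.2 fun he =>
      (LC.smul_top_ne_top_of_le_maximal (M := M) (J := Ideal.span {b})
        ((Ideal.span_singleton_le_iff_mem _).2 (hle hb))) (by rw [Submodule.ideal_span_singleton_smul]; exact he)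
    have hd' : LocCoh.idealDepth (Ideal.span {x | x ∈ fs}) M' = r := by
      have := LC.idealDepth_quotSMulTop_add_one (Ideal.span {x | x ∈ fs}) (M := M) hb hreg
      rw [h, Nat.cast_add, Nat.cast_one] at this
      exact ENat.add_left_injective_of_ne_top (by simp) this
    obtain ⟨hlow, htopH⟩ := ih M' hd'
    let π : M ⟶ M' := ModuleCat.ofHom (Y := QuotSMulTop b M) (Submodule.mkQ _)
    have hz : (b • 𝟙 M) ≫ π = 0 := ModuleCat.hom_ext (LinearMap.ext fun x =>
      (Submodule.Quotient.mk_eq_zero _).2 (Submodule.smul_mem_pointwise_smul x b ⊤ trivial))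
    have hS : (ShortComplex.mk _ _ hz).ShortExact :=
      { exact := (ShortComplex.ShortExact.moduleCat_exact_iff_function_exact _).2 fun x => by
          refine ⟨fun hx => ?_, ?_⟩
          · obtain ⟨y, -, hy⟩ := Submodule.mem_map.1 ((Submodule.Quotient.mk_eq_zero _).1 hx)
            exact ⟨y, hy⟩
          · rintro ⟨y, rfl⟩
            exact ConcreteCategory.congr_hom hz y
        mono_f := (ModuleCat.mono_iff_injective _).2 fun a b' h' => hreg h'
        epi_g := (ModuleCat.epi_iff_surjective _).2 (Submodule.mkQ_surjective _) }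
    obtain ⟨hz', hK⟩ := Koszul15.kmap_shortExact _ _ hz hS fs
    have hzero : ∀ q, HomologicalComplex.homologyMap (Koszul15.kmap (b • 𝟙 M) fs) q = 0 :=
      homologyMap_kmap_eq_zero M fs b hb
    have hmono : ∀ q, Mono (HomologicalComplex.homologyMap (Koszul15.kmap π fs) q) := fun q =>
      (hK.homology_exact₂ q).mono_g (hzero q)
    have hepi : ∀ q q' : ℤ, q + 1 = q' → ∀ (h : (ComplexShape.up ℤ).Rel q q'), Epi (hK.δ q q' h) := fun q q' hq _ =>
      (hK.homology_exact₁ q q' (by simpa using hq)).epi_f (hzero q')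
    refine ⟨fun p hp => ?_, fun hcon => htopH ?_⟩
    · rcases p with _ | p
      · haveI := hepi (-(fs.length : ℤ) - 1) _ (show -(fs.length : ℤ) - 1 + 1 = ((0 : ℕ) : ℤ) - fs.length by omega) (by simp <;> omega)
        exact IsZero.of_epi (hK.δ (-(fs.length : ℤ) - 1) (((0 : ℕ) : ℤ) - fs.length) _)
          (ShortComplex.isZero_homology_of_isZero_X₂ _ (Koszul15.isZero_X M' fs _ (by omega)))
      · haveI := hepi ((p : ℤ) - fs.length) _ (show (p : ℤ) - fs.length + 1 = ((p + 1 : ℕ) : ℤ) - fs.length by omega) (by simp <;> omega)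
        exact IsZero.of_epi (hK.δ ((p : ℤ) - fs.length) (((p + 1 : ℕ) : ℤ) - fs.length) _)
          (hlow p (by omega))
    · have hlow' : IsZero (CohIII.koszulH fs M r) := by
        rcases r with _ | p
        · haveI := hepi (-(fs.length : ℤ) - 1) _ (show -(fs.length : ℤ) - 1 + 1 = ((0 : ℕ) : ℤ) - fs.length by omega) (by simp <;> omega)
          exact IsZero.of_epi (hK.δ (-(fs.length : ℤ) - 1) (((0 : ℕ) : ℤ) - fs.length) _)
            (ShortComplex.isZero_homology_of_isZero_X₂ _ (Koszul15.isZero_X M' fs _ (by omega)))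
        · haveI := hepi ((p : ℤ) - fs.length) _ (show (p : ℤ) - fs.length + 1 = ((p + 1 : ℕ) : ℤ) - fs.length by omega) (by simp <;> omega)
          exact IsZero.of_epi (hK.δ ((p : ℤ) - fs.length) (((p + 1 : ℕ) : ℤ) - fs.length) _)
            (hlow p (by omega))
      exact (hK.homology_exact₃ ((r : ℤ) - fs.length) (((r + 1 : ℕ) : ℤ) - fs.length) (by simp <;> omega)).isZero_of_both_zeros
        (hlow'.eq_of_src _ _) (hcon.eq_of_tgt _ _)

theorem exists_depth_eq (fs : List A) (hfs : ∀ x ∈ fs, x ∈ maximalIdeal A) (M : ModuleCat.{u} A) [Module.Finite A M]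
    [Nontrivial M] : ∃ r : ℕ, LocCoh.idealDepth (Ideal.span {x | x ∈ fs}) M = r ∧ r ≤ fs.length := by
  obtain ⟨rs, -, -, h⟩ := LC.exists_idealDepth_eq_length (Ideal.span {x | x ∈ fs}) (M := M)
    (LC.smul_top_ne_top_of_le_maximal (Ideal.span_le.2 hfs))
  refine ⟨rs.length, h, ?_⟩
  by_contra hlt
  exact (main fs hfs rs.length M h).2
    (ShortComplex.isZero_homology_of_isZero_X₂ _ (Koszul15.isZero_X M fs _ (by omega)))

end Groth.Agent.H1KoszulDepth
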